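import Mathlib.RingTheory.Flat.EquationalCriterion
import Mathlib.RingTheory.Valuation.ValuationRing
import Mathlib.RingTheory.Localization.FractionRing
import Mathlib.RingTheory.Finiteness.Basic

/-!
Rings whose ideals are flat; products of valuation rings.
-/

universe u

namespace Groth.Agent.FlatIdealsH7

theorem flat_submodule_of_fg {A : Type u} [CommRing A] {M : Type u} [AddCommGroup M] [Module A M] (N : Submodule A M)
    (h : ∀ P : Submodule A M, P ≤ N → P.FG → Module.Flat A P) : Module.Flat A N := by
  rw [Module.Flat.iff_forall_isTrivialRelation]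
  intro l f x hx
  let P : Submodule A M := Submodule.span A (Set.range fun i => (x i : M))
  have hPN : P ≤ N := Submodule.span_le.2 (by rintro _ ⟨i, rfl⟩; exact (x i).2)
  haveI := h P hPN (Submodule.fg_span (Set.finite_range _))
  let x' : Fin l → P := fun i => ⟨x i, Submodule.subset_span ⟨i, rfl⟩⟩
  have hx' : ∑ i, f i • x' i = 0 := by
    apply Subtype.ext
    have := congrArg Subtype.val hx
    simpa [x'] using this
  obtain ⟨k, a, y, h1, h2⟩ := Module.Flat.isTrivialRelation_of_sum_smul_eq_zero hx'
  refine ⟨k, a, fun j => Submodule.inclusion hPN (y j), fun i => ?_, h2⟩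
  have := congrArg (Submodule.inclusion hPN) (h1 i)
  rw [map_sum] at this
  refine Eq.trans (Subtype.ext rfl) (this.trans (Finset.sum_congr rfl fun j _ => map_smul _ _ _))

/-- A principal ideal whose annihilator is generated by an idempotent is flat. -/
theorem flat_span_singleton {A : Type u} [CommRing A] (d e : A) (hed : e * d = 0)
    (hann : ∀ r, r * d = 0 → r * (1 - e) = 0) : Module.Flat A (Ideal.span ({d} : Set A)) := by
  rw [Module.Flat.iff_forall_isTrivialRelation]
  intro l f x hx
  choose c hc using fun i => Ideal.mem_span_singleton'.1 (x i).2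
  refine ⟨1, fun i _ => c i * (1 - e), fun _ => ⟨d, Ideal.mem_span_singleton_self d⟩, fun i => ?_, fun _ => ?_⟩
  · refine Subtype.ext ?_
    simp only [Fin.sum_univ_one, SetLike.val_smul, smul_eq_mul]
    rw [← hc i, mul_sub, mul_one, sub_mul, mul_assoc, hed, mul_zero, sub_zero]
  · have h0 : (∑ i, f i * c i) * d = 0 := by
      have := congrArg Subtype.val hx
      simp only [AddSubmonoidClass.coe_finsetSum, SetLike.val_smul, smul_eq_mul, ← hc, ZeroMemClass.coe_zero,
        ← mul_assoc, ← Finset.sum_mul] at this
      exact this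
    have := hann _ h0
    rw [Finset.sum_mul] at this
    simpa [mul_assoc] using this

section Pi

theorem dvd_pi_of {J : Type u} {B : J → Type u} [∀ j, CommRing (B j)] {a b : ∀ j, B j} (h : ∀ j, a j ∣ b j) : a ∣ b := by
  choose c hc using h
  exact ⟨c, funext hc⟩

variable {J : Type u} (B : J → Type u) [∀ j, CommRing (B j)] [∀ j, IsDomain (B j)] [∀ j, ValuationRing (B j)]

theorem fg_isPrincipal (I : Ideal (∀ j, B j)) (hI : I.FG) : ∃ d, I = Ideal.span {d} := by
  classical
  refine Submodule.fg_induction (R := ∀ j, B j) (M := ∀ j, B j) (motive := fun N _ => ∃ d, N = Ideal.span {d})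
    (fun x => ⟨x, rfl⟩) ?_ I hI
  intro N N' hN hN' h h'
  obtain ⟨a, rfl⟩ := h
  obtain ⟨b, rfl⟩ := h'
  let e : ∀ j, B j := fun j => if a j ∣ b j then 1 else 0
  refine ⟨e * a + (1 - e) * b, le_antisymm (sup_le ?_ ?_) ?_⟩
  · rw [Ideal.span_singleton_le_iff_mem, Ideal.mem_span_singleton]
    refine dvd_pi_of fun j => ?_
    simp only [Pi.add_apply, Pi.mul_apply, Pi.sub_apply, Pi.one_apply, e]
    split_ifs with h
    · simp
    · simpa using (ValuationRing.dvd_total (a j) (b j)).resolve_left h
  · rw [Ideal.span_singleton_le_iff_mem, Ideal.mem_span_singleton]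
    refine dvd_pi_of fun j => ?_
    simp only [Pi.add_apply, Pi.mul_apply, Pi.sub_apply, Pi.one_apply, e]
    split_ifs with h
    · simpa using h
    · simp
  · rw [Ideal.span_singleton_le_iff_mem]
    exact Submodule.add_mem_sup (Ideal.mul_mem_left _ _ (Ideal.mem_span_singleton_self a))
      (Ideal.mul_mem_left _ _ (Ideal.mem_span_singleton_self b))

theorem flat_ideal_pi (I : Ideal (∀ j, B j)) : Module.Flat (∀ j, B j) I := by
  classical
  refine flat_submodule_of_fg I fun P _ hP => ?_
  obtain ⟨d, rfl⟩ := fg_isPrincipal B P hP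
  refine flat_span_singleton d (fun j => if d j = 0 then 1 else 0) (funext fun j => ?_) fun r hr => funext fun j => ?_
  · by_cases h : d j = 0 <;> simp [h]
  · have hj := congrFun hr j
    simp only [Pi.mul_apply, Pi.zero_apply, mul_eq_zero] at hj
    by_cases h : d j = 0
    · simp [h]
    · simp [h, hj.resolve_right h]

theorem isLocalization_pi (K : J → Type u) [∀ j, Field (K j)] [∀ j, Algebra (B j) (K j)]
    [∀ j, IsFractionRing (B j) (K j)] : IsLocalization (nonZeroDivisors (∀ j, B j)) (∀ j, K j) := by
  classical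
  have hinj : ∀ j, Function.Injective (algebraMap (B j) (K j)) := fun j => IsFractionRing.injective (B j) (K j)
  constructor
  refine ⟨fun s => isUnit_iff_exists_inv.2 ⟨fun j => (algebraMap (B j) (K j) ((s : ∀ j, B j) j))⁻¹, funext fun j => ?_⟩,
    fun z => ?_, fun {x y} h => ⟨1, ?_⟩⟩
  · refine mul_inv_cancel₀ (fun h0 => ?_)
    have hs : (s : ∀ j, B j) j = 0 := hinj j (by rw [map_zero]; exact h0)
    have h1 : (Pi.single j 1 : ∀ j, B j) * s = 0 := funext fun i => by
      by_cases hij : i = j
      · subst hij; simp [hs]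
      · simp [Pi.single_eq_of_ne hij]
    have := congrFun (s.2.2 _ h1) j
    simp at this
  · choose a b hb hab using fun j => IsFractionRing.div_surjective (B j) (z j)
    refine ⟨⟨a, ⟨b, ?_⟩⟩, ?_⟩
    · exact mem_nonZeroDivisors_iff_right.2 fun x hx => funext fun j =>
        (mul_eq_zero.1 (congrFun hx j)).resolve_right (nonZeroDivisors.ne_zero (hb j))
    · funext j
      show z j * algebraMap (B j) (K j) (b j) = algebraMap (B j) (K j) (a j)
      rw [← hab j, div_mul_cancel₀]
      exact fun h0 => nonZeroDivisors.ne_zero (hb j) (hinj j (by rw [map_zero]; exact h0))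
  · simp only [OneMemClass.coe_one, one_mul]
    exact funext fun j => hinj j (congrFun h j)

end Pi

end Groth.Agent.FlatIdealsH7
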